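import Groth.Agent.Subtr56.PurW.Points
import Mathlib.AlgebraicGeometry.Noetherian

/-! Neighbourhoods adapted to a maximal point of a closed set; the local-isomorphism locus. -/

set_option autoImplicit false
set_option linter.style.haveILetI false
universe u

open CategoryTheory AlgebraicGeometry TopologicalSpace

namespace Groth.Agent.Subtr56.PurW

variable {X Y : Scheme.{u}} (g : X ⟶ Y)

theorem exists_nhd_closed [IsLocallyNoetherian X] {T : Set X} (hT : IsClosed T) {z : X}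
    (hmax : ∀ z' ∈ T, z' ⤳ z → z' = z) :
    ∃ W : X.Opens, z ∈ W ∧ ∀ x ∈ W, x ∈ T → z ⤳ x := by
  classical
  obtain ⟨O, hO, hzO, -⟩ := exists_isAffineOpen_mem_and_subset (x := z) (U := ⊤) trivial
  haveI : IsNoetherianRing Γ(X, O) := IsLocallyNoetherian.component_noetherian ⟨O, hO⟩
  haveI : NoetherianSpace ↥O := noetherianSpace_of_isAffineOpen O hO
  haveI : QuasiSober ↥O := O.isOpenEmbedding.quasiSober
  obtain ⟨S, hSfin, hScl, hSirr, hS⟩ := NoetherianSpace.exists_finite_set_isClosed_irreducible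
    (hT.preimage (continuous_subtype_val (p := fun x => x ∈ O)))
  let bad : Set ↥O := ⋃₀ {t ∈ S | (⟨z, hzO⟩ : ↥O) ∉ t}
  have hbad : IsClosed bad :=
    (hSfin.subset (Set.sep_subset _ _)).isClosed_biUnion (fun t ht => hScl t ht.1) |> fun h => by
      simpa [bad, Set.sUnion_eq_biUnion] using h
  refine ⟨⟨Subtype.val '' badᶜ, O.isOpen.isOpenMap_subtype_val _ hbad.isOpen_compl⟩,
    ⟨⟨z, hzO⟩, fun ⟨t, ht, hzt⟩ => ht.2 hzt, rfl⟩, ?_⟩
  rintro _ ⟨x, hx, rfl⟩ hxT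
  obtain ⟨t, htS, hxt⟩ : ∃ t ∈ S, x ∈ t := by
    have : x ∈ ⋃₀ S := hS ▸ (show x ∈ Subtype.val ⁻¹' T from hxT)
    exact this
  have hzt : (⟨z, hzO⟩ : ↥O) ∈ t := by
    by_contra h
    exact hx ⟨t, ⟨htS, h⟩, hxt⟩
  obtain ⟨η, hη⟩ := QuasiSober.sober (hSirr t htS) (hScl t htS)
  have hηT : η.1 ∈ T := by
    have : η ∈ ⋃₀ S := ⟨t, htS, hη.mem⟩
    rw [← hS] at this
    exact this
  have h1 := hmax η.1 hηT ((hη.specializes hzt).map continuous_subtype_val)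
  exact h1 ▸ (hη.specializes hxt).map continuous_subtype_val

theorem isIso_stalkMap_of_mem {W : X.Opens} [IsLocalIso (W.ι ≫ g)] {x : X} (hx : x ∈ W) :
    IsIso (g.stalkMap x) := by
  let x' : W.toScheme := ⟨x, hx⟩
  have := isIso_stalkMap_of_isLocalIso (W.ι ≫ g) x'
  rw [Scheme.Hom.stalkMap_comp] at this
  have h2 : IsIso (W.ι.stalkMap x') := inferInstance
  exact @IsIso.of_isIso_comp_right _ _ _ _ _ (g.stalkMap x) (W.ι.stalkMap x') h2 this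

theorem isLocalIso_of_forall {G : X.Opens}
    (h : ∀ x ∈ G, ∃ W : X.Opens, x ∈ W ∧ IsLocalIso (W.ι ≫ g)) : IsLocalIso (G.ι ≫ g) := by
  refine ⟨fun x => ?_⟩
  obtain ⟨W, hxW, hW⟩ := h x.1 x.2
  obtain ⟨U, hxU, hU⟩ := hW.exists_isOpenImmersion ⟨x.1, hxW⟩
  refine ⟨G.ι ⁻¹ᵁ (U.ι ≫ W.ι).opensRange, ⟨⟨⟨x.1, hxW⟩, hxU⟩, rfl⟩, ?_⟩
  let l := IsOpenImmersion.lift (U.ι ≫ W.ι)
    ((G.ι ⁻¹ᵁ (U.ι ≫ W.ι).opensRange).ι ≫ G.ι) (by rintro _ ⟨y, rfl⟩; exact y.2)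
  have hl : l ≫ U.ι ≫ W.ι = (G.ι ⁻¹ᵁ (U.ι ≫ W.ι).opensRange).ι ≫ G.ι := IsOpenImmersion.lift_fac ..
  haveI : IsOpenImmersion (l ≫ U.ι ≫ W.ι) := hl ▸ inferInstance
  haveI : IsOpenImmersion l := IsOpenImmersion.of_comp l (U.ι ≫ W.ι)
  have : (G.ι ⁻¹ᵁ (U.ι ≫ W.ι).opensRange).ι ≫ G.ι ≫ g = l ≫ U.ι ≫ W.ι ≫ g := by
    rw [← Category.assoc, ← hl]; simp only [Category.assoc]
  rw [this]
  exact MorphismProperty.comp_mem @IsOpenImmersion _ _ inferInstance hU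

end Groth.Agent.Subtr56.PurW
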