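import Groth.Agent.Subtr56.PurW.Core
import Groth.Agent.Tors37.IsoLocal
import Mathlib.RingTheory.EssentialFiniteness

/-! Condition (W): reduction from schemes to the algebraic core. -/

set_option autoImplicit false
set_option linter.style.haveILetI false
universe u

open CategoryTheory CategoryTheory.Limits AlgebraicGeometry IsLocalRing TensorProduct

namespace Groth.Agent.Subtr56.PurW

theorem dim_le_one_of_cond {X Y : Scheme.{u}} [IsLocallyNoetherian X] (g : X ⟶ Y) (y : Y)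
    {Y₀ : Y.Opens} (hY₀ : IsAffineOpen Y₀) (hy : y ∈ Y₀)
    {O : X.Opens} (hO : IsAffineOpen O) (hOY : O ≤ g ⁻¹ᵁ Y₀)
    (G : X.Opens) [IsOpenImmersion (G.ι ≫ g)]
    (hG : ∀ x ∈ O, g x ⤳ y → g x ≠ y → x ∈ G)
    (hW : ∀ U : (Spec (Y.presheaf.stalk y)).Opens, ∀ hU : U ≤ FEt.puncturedSpec ↑(Y.presheaf.stalk y),
        (∀ T ∈ irreducibleComponents ↥(FEt.puncturedSpec ↑(Y.presheaf.stalk y)),
          ¬ Subtype.val '' T ⊆ (U : Set _)) →
        IsAffineHom ((Spec (Y.presheaf.stalk y)).homOfLE hU) → IsAffineOpen U)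
    {z q : X} (hzO : z ∈ O) (hqO : q ∈ O) (hz : g z = y) (hq : g q = y) (hzq : z ⤳ q) (hne : q ≠ z)
    (hmin : ∀ z' ∈ O, g z' = y → z' ⤳ z → z' = z) :
    ringKrullDim (X.presheaf.stalk z) ≤ 1 := by
  let R := Γ(Y, Y₀)
  let A₀ := Γ(X, O)
  let B := Y.presheaf.stalk y
  let θ : R ⟶ A₀ := g.appLE Y₀ O hOY
  let γ : R ⟶ B := Y.presheaf.germ Y₀ y hy
  letI : Algebra R A₀ := θ.hom.toAlgebra
  letI : Algebra R B := γ.hom.toAlgebra
  haveI hloc : IsLocalization.AtPrime B (hY₀.primeIdealOf ⟨y, hy⟩).asIdeal :=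
    hY₀.isLocalization_stalk ⟨y, hy⟩
  haveI : Algebra.EssFiniteType R B :=
    Algebra.EssFiniteType.of_isLocalization B (hY₀.primeIdealOf ⟨y, hy⟩).asIdeal.primeCompl
  haveI : IsNoetherianRing A₀ := IsLocallyNoetherian.component_noetherian ⟨O, hO⟩
  let A : CommRingCat.{u} := CommRingCat.of (A₀ ⊗[R] B)
  haveI : IsNoetherianRing A := Algebra.EssFiniteType.isNoetherianRing A₀ (A₀ ⊗[R] B)
  let inl : A₀ ⟶ A := CommRingCat.ofHom Algebra.TensorProduct.includeLeftRingHom
  let inr : B ⟶ A := CommRingCat.ofHom (Algebra.TensorProduct.includeRight (R := R) (A := A₀) (B := B)).toRingHom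
  have hpb : IsPullback (Spec.map inl) (Spec.map inr) (Spec.map θ) (Spec.map γ) :=
    isPullback_SpecMap_of_isPushout θ γ inl inr (CommRingCat.isPushout_tensorProduct R A₀ B)
  haveI : IsPreimmersion (Spec.map γ) :=
    IsPreimmersion.of_isLocalization (S := B) (hY₀.primeIdealOf ⟨y, hy⟩).asIdeal.primeCompl
  haveI : Flat (Spec.map γ) := by
    rw [HasRingHomProperty.Spec_iff (P := @Flat)]
    exact RingHom.flat_algebraMap_iff.2
      (IsLocalization.flat B (hY₀.primeIdealOf ⟨y, hy⟩).asIdeal.primeCompl)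
  haveI : IsPreimmersion (Spec.map inl) := MorphismProperty.of_isPullback hpb.flip ‹IsPreimmersion (Spec.map γ)›
  haveI : Flat (Spec.map inl) := MorphismProperty.of_isPullback hpb.flip ‹Flat (Spec.map γ)›
  let a : Spec A ⟶ X := Spec.map inl ≫ hO.fromSpec
  have hσ : Spec.map γ ≫ hY₀.fromSpec = Y.fromSpecStalk y :=
    hY₀.fromSpecStalk_eq_fromSpecStalk hy
  have hsq : a ≫ g = Spec.map inr ≫ Y.fromSpecStalk y := by
    rw [← hσ, ← Category.assoc, ← hpb.w, Category.assoc, Category.assoc,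
      IsAffineOpen.SpecMap_appLE_fromSpec g hY₀ hO hOY]
  have hpt : ∀ w : Spec A, g (a w) = Y.fromSpecStalk y (Spec.map inr w) := fun w =>
    congrArg (fun m : Spec A ⟶ Y => m w) hsq
  have haO : ∀ w : Spec A, a w ∈ O := fun w => by
    have : hO.fromSpec (Spec.map inl w) ∈ Set.range hO.fromSpec := ⟨_, rfl⟩
    rw [hO.range_fromSpec] at this
    exact this
  have hcl : ∀ w : Spec A, Spec.map inr w = closedPoint B ↔ g (a w) = y := fun w => by
    refine ⟨fun h => by rw [hpt, h, Scheme.fromSpecStalk_closedPoint], fun h =>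
      (Y.fromSpecStalk y).isEmbedding.injective ?_⟩
    rw [← hpt, h, Scheme.fromSpecStalk_closedPoint]
  have hlift : ∀ x ∈ O, g x = y → ∃ w : Spec A, a w = x ∧ Spec.map inr w = closedPoint B := by
    intro x hxO hxy
    have hxr : x ∈ Set.range hO.fromSpec := by rw [hO.range_fromSpec]; exact hxO
    obtain ⟨x₀, hx₀⟩ := hxr
    have : (Spec.map θ) x₀ = (Spec.map γ) (closedPoint B) := by
      apply hY₀.fromSpec.isOpenEmbedding.injective
      rw [← Scheme.Hom.comp_apply, ← Scheme.Hom.comp_apply,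
        IsAffineOpen.SpecMap_appLE_fromSpec g hY₀ hO hOY, hσ, Scheme.fromSpecStalk_closedPoint,
        Scheme.Hom.comp_apply, hx₀, hxy]
    obtain ⟨w, hw₁, hw₂⟩ := Scheme.exists_preimage_of_isPullback hpb x₀ (closedPoint B) this
    exact ⟨w, by rw [← hx₀, ← hw₁]; rfl, hw₂⟩
  let P : (Spec B).Opens := FEt.puncturedSpec ↑B
  have hP : ∀ x : Spec B, x ∈ P ↔ x ≠ closedPoint B := fun _ => Iff.rfl
  let G' : (Spec A₀).Opens := hO.fromSpec ⁻¹ᵁ G
  haveI : IsOpenImmersion (G'.ι ≫ Spec.map θ) := by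
    haveI : IsOpenImmersion ((G'.ι ≫ Spec.map θ) ≫ hY₀.fromSpec) := by
      rw [Category.assoc, IsAffineOpen.SpecMap_appLE_fromSpec g hY₀ hO hOY, ← Category.assoc,
        ← morphismRestrict_ι, Category.assoc]
      exact MorphismProperty.comp_mem @IsOpenImmersion _ _
        (IsZariskiLocalAtTarget.restrict (P := @IsOpenImmersion) inferInstance _) ‹_›
    exact IsOpenImmersion.of_comp _ hY₀.fromSpec
  let W : (Spec A).Opens := Spec.map inl ⁻¹ᵁ G'
  have hWimm : IsOpenImmersion (W.ι ≫ Spec.map inr) :=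
    MorphismProperty.of_isPullback
      ((isPullback_morphismRestrict (Spec.map inl) G').paste_vert hpb)
      ‹IsOpenImmersion (G'.ι ≫ Spec.map θ)›
  have hle : Spec.map inr ⁻¹ᵁ P ≤ W := fun w hw => by
    have h1 : g (a w) ≠ y := fun e => (hP _).1 hw ((hcl w).2 e)
    have h2 : g (a w) ⤳ y := by
      rw [hpt]
      have := Set.mem_range_self (f := Y.fromSpecStalk y) (Spec.map inr w)
      rwa [Scheme.range_fromSpecStalk] at this
    exact hG _ (haO w) h2 h1
  haveI : IsOpenImmersion (Spec.map inr ∣_ P) := by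
    haveI : IsOpenImmersion ((Spec.map inr ∣_ P) ≫ P.ι) := by
      rw [morphismRestrict_ι, ← Scheme.homOfLE_ι _ hle, Category.assoc]
      exact MorphismProperty.comp_mem @IsOpenImmersion _ _ inferInstance hWimm
    exact IsOpenImmersion.of_comp _ P.ι
  obtain ⟨wz, rfl, hwz⟩ := hlift z hzO hz
  obtain ⟨wq, rfl, hwq⟩ := hlift q hqO hq
  have hzq' : wz ⤳ wq := a.isEmbedding.isInducing.specializes_iff.1 hzq
  have h1 := dim_le_one_core (Spec.map inr) P hP hW wz wq hwz hwq hzq' (fun e => hne (by rw [e]))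
    fun w hw hwle => a.isEmbedding.injective
      (hmin _ (haO w) ((hcl w).1 hw) (hwle.map a.continuous))
  haveI := Tors37.isIso_stalkMap_of_flat_preimmersion a wz
  exact (ringKrullDim_eq_of_ringEquiv
    (asIso (a.stalkMap wz)).commRingCatIsoToRingEquiv).trans_le h1

end Groth.Agent.Subtr56.PurW
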