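import Mathlib.RingTheory.Ideal.KrullsHeightTheorem
import Mathlib.RingTheory.Ideal.Height

/-! A divisor which cuts every component but avoids a given prime. -/

set_option autoImplicit false
universe u

namespace Groth.Agent.Subtr56.PurW

variable {R : Type u} [CommRing R] [IsNoetherianRing R]

theorem exists_prime_ge {I p M P : Ideal R} [p.IsPrime] [M.IsPrime] (hIp : I ≤ p) (hpM : p < M)
    (hP : P ∈ minimalPrimes R) (hIP : ¬ I ≤ P) :
    ∃ Q : Ideal R, Q.IsPrime ∧ P ≤ Q ∧ ¬ I ≤ Q ∧ ¬ Q ≤ p := by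
  classical
  have : P.IsPrime := hP.1.1
  by_cases hPp : P ≤ p
  swap
  · exact ⟨P, hP.1.1, le_rfl, hIP, hPp⟩
  have hfin : ((I ⊔ P).minimalPrimes).Finite := Ideal.finite_minimalPrimes_of_isNoetherianRing R _
  let s : Finset (Ideal R) := insert p hfin.toFinset
  have hprime : ∀ G ∈ s, G.IsPrime := by
    intro G hG
    rcases Finset.mem_insert.mp hG with rfl | hG
    · assumption
    · exact (hfin.mem_toFinset.mp hG).1.1
  obtain ⟨x, hxM, hx⟩ : ∃ x ∈ M, ∀ G ∈ s, x ∉ G := by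
    have hns : ¬ ((M : Set R) ⊆ ⋃ G ∈ (s : Set (Ideal R)), ((id G : Ideal R) : Set R)) := fun hsub => by
      obtain ⟨G, hG, hle⟩ := (Ideal.subset_union_prime (f := id) ⊤ ⊤ fun G hG _ _ => hprime G hG).1 hsub
      rcases Finset.mem_insert.mp hG with rfl | hG
      · exact hpM.not_ge hle
      · have hG := hfin.mem_toFinset.mp hG
        have : G ≤ p := hG.2 ⟨inferInstance, sup_le hIp hPp⟩ ((hpM.le.trans hle))
        exact hpM.not_ge (hle.trans this)
    obtain ⟨x, hxM, hx⟩ := Set.not_subset.1 hns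
    exact ⟨x, hxM, fun G hG hxG => hx (Set.mem_iUnion₂.2 ⟨G, hG, hxG⟩)⟩
  obtain ⟨Q, hQ, -⟩ := Ideal.exists_minimalPrimes_le (I := P ⊔ Ideal.span {x}) (J := M)
    (sup_le (hPp.trans hpM.le) ((Ideal.span_singleton_le_iff_mem M).2 hxM))
  have : Q.IsPrime := hQ.1.1
  have hPQ : P ≤ Q := le_sup_left.trans hQ.1.2
  have hxQ : x ∈ Q := hQ.1.2 (le_sup_right (a := P) (Ideal.subset_span rfl))
  refine ⟨Q, this, hPQ, fun hIQ => ?_, fun h => hx p (Finset.mem_insert_self _ _) (h hxQ)⟩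
  obtain ⟨G, hG, hGQ⟩ := Ideal.exists_minimalPrimes_le (I := I ⊔ P) (J := Q) (sup_le hIQ hPQ)
  have hxG : x ∉ G := hx G (Finset.mem_insert_of_mem (hfin.mem_toFinset.mpr hG))
  have : G.IsPrime := hG.1.1
  let f := Ideal.Quotient.mk P
  have hf : Function.Surjective f := Ideal.Quotient.mk_surjective
  have hPG : P ≤ G := le_sup_right.trans hG.1.2
  have hker : RingHom.ker f = P := Ideal.mk_ker
  have hGp : (G.map f).IsPrime := Ideal.map_isPrime_of_surjective hf (hker.trans_le hPG)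
  have hQp : (Q.map f).IsPrime := Ideal.map_isPrime_of_surjective hf (hker.trans_le hPQ)
  have hcG : (G.map f).comap f = G := by
    rw [Ideal.comap_map_of_surjective f hf, ← RingHom.ker_eq_comap_bot, hker, sup_eq_left.mpr hPG]
  have hcQ : (Q.map f).comap f = Q := by
    rw [Ideal.comap_map_of_surjective f hf, ← RingHom.ker_eq_comap_bot, hker, sup_eq_left.mpr hPQ]
  have hQmin : Q.map f ∈ (Ideal.span {f x}).minimalPrimes := by
    refine ⟨⟨hQp, (Ideal.span_singleton_le_iff_mem _).2 (Ideal.mem_map_of_mem f hxQ)⟩, fun J hJ hle => ?_⟩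
    have : J.IsPrime := hJ.1
    have h1 : P ⊔ Ideal.span {x} ≤ J.comap f := sup_le
      (hker.symm.le.trans (Ideal.ker_le_comap f))
      ((Ideal.span_singleton_le_iff_mem _).2 (hJ.2 (Ideal.subset_span rfl)))
    have h2 : Q ≤ J.comap f := hQ.2 ⟨inferInstance, h1⟩ ((Ideal.comap_mono hle).trans hcQ.le)
    exact (Ideal.map_mono h2).trans Ideal.map_comap_le
  have hh : (Q.map f).height ≤ 1 := Ideal.height_le_one_of_isPrincipal_of_mem_minimalPrimes _ _ hQmin
  have hlt : G.map f < Q.map f := lt_of_le_of_ne (Ideal.map_mono hGQ) fun e => hxG (hcG.le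
    (show x ∈ (G.map f).comap f by rw [e, hcQ]; exact hxQ))
  have h0 : (G.map f).height < 1 := (Ideal.height_strict_mono_of_isPrime_of_isPrime hlt).trans_le hh
  have : G.map f = ⊥ := Ideal.height_eq_zero_iff_eq_bot.mp (Order.lt_one_iff.mp h0)
  refine hIP ((le_sup_left.trans hG.1.2).trans ?_)
  rw [← hcG, this, ← RingHom.ker_eq_comap_bot, hker]

/-- An element outside `p` which lies on a prime outside `V(I)` above each minimal prime outside `V(I)`. -/
theorem exists_cut {I p M : Ideal R} [p.IsPrime] [M.IsPrime] (hIp : I ≤ p) (hpM : p < M) :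
    ∃ h, h ∉ p ∧ ∀ P ∈ minimalPrimes R, ¬ I ≤ P → ∃ Q : Ideal R, Q.IsPrime ∧ P ≤ Q ∧ ¬ I ≤ Q ∧ h ∈ Q := by
  classical
  have hfin : {P ∈ minimalPrimes R | ¬ I ≤ P}.Finite :=
    (minimalPrimes.finite_of_isNoetherianRing R).subset (Set.sep_subset _ _)
  choose! Q hQ hPQ hIQ hQp using fun P (hP : P ∈ hfin.toFinset) =>
    exists_prime_ge hIp hpM (hfin.mem_toFinset.mp hP).1 (hfin.mem_toFinset.mp hP).2
  choose! x hxQ hxp using fun P (hP : P ∈ hfin.toFinset) => SetLike.not_le_iff_exists.mp (hQp P hP)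
  refine ⟨∏ P ∈ hfin.toFinset, x P, fun h => ?_, fun P hP hIP => ?_⟩
  · obtain ⟨P, hP, hxP⟩ := (Ideal.IsPrime.prod_mem_iff (p := p)).mp h
    exact hxp P hP hxP
  · have hm : P ∈ hfin.toFinset := hfin.mem_toFinset.mpr ⟨hP, hIP⟩
    exact ⟨Q P, hQ P hm, hPQ P hm, hIQ P hm,
      (Q P).mem_of_dvd (Finset.dvd_prod_of_mem x hm) (hxQ P hm)⟩

end Groth.Agent.Subtr56.PurW
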