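import Groth.Agent.Subtr56.PurW.Alg
import Groth.Agent.Div89.AffineCompl
import Mathlib.AlgebraicGeometry.Morphisms.Affine

/-! Condition (W): the algebraic core of the purity statement. -/

set_option autoImplicit false
set_option linter.style.haveILetI false
universe u

open CategoryTheory AlgebraicGeometry IsLocalRing

namespace Groth.Agent.Subtr56.PurW

theorem dim_le_one_core {A B : CommRingCat.{u}} [IsNoetherianRing A] [IsLocalRing B]
    (φ : Spec A ⟶ Spec B) (P : (Spec B).Opens) (hP : ∀ x : Spec B, x ∈ P ↔ x ≠ closedPoint B)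
    [IsOpenImmersion (φ ∣_ P)]
    (hW : ∀ U : (Spec B).Opens, ∀ hU : U ≤ P,
        (∀ T ∈ irreducibleComponents ↥P, ¬ Subtype.val '' T ⊆ (U : Set _)) →
        IsAffineHom ((Spec B).homOfLE hU) → IsAffineOpen U)
    (z q : Spec A) (hz : φ z = closedPoint B) (hq : φ q = closedPoint B) (hzq : z ⤳ q) (hne : q ≠ z)
    (hmin : ∀ z' : Spec A, φ z' = closedPoint B → z' ⤳ z → z' = z) :
    ringKrullDim ((Spec A).presheaf.stalk z) ≤ 1 := by
  classical
  let S : Set (PrimeSpectrum A) := φ ⁻¹' {closedPoint B}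
  have hS : IsClosed S := (isClosed_singleton_closedPoint (R := B)).preimage φ.continuous
  let I := PrimeSpectrum.vanishingIdeal S
  have hI : ∀ x : Spec A, φ x = closedPoint B ↔ I ≤ x.asIdeal := by
    refine fun x => ⟨fun hx f hf => (PrimeSpectrum.mem_vanishingIdeal _ _).1 hf x hx, fun hx => ?_⟩
    have : x ∈ PrimeSpectrum.zeroLocus (I : Set A) := hx
    rw [PrimeSpectrum.zeroLocus_vanishingIdeal_eq_closure, hS.closure_eq] at this
    exact this
  have hle : z.asIdeal ≤ q.asIdeal := (PrimeSpectrum.le_iff_specializes z q).2 hzq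
  obtain ⟨h, hhz, hcut⟩ := exists_cut ((hI z).1 hz)
    (lt_of_le_of_ne hle fun e => hne (PrimeSpectrum.ext e.symm))
  let D : (Spec A).Opens := PrimeSpectrum.basicOpen h
  haveI : IsAffine D := IsAffineOpen.Spec_basicOpen h
  let ψ : D.toScheme ⟶ Spec B := D.ι ≫ φ
  haveI : IsOpenImmersion (ψ ∣_ P) := by
    show IsOpenImmersion ((D.ι ≫ φ) ∣_ P)
    rw [morphismRestrict_comp]
    exact MorphismProperty.comp_mem @IsOpenImmersion _ _
      (IsZariskiLocalAtTarget.restrict (P := @IsOpenImmersion) inferInstance _) ‹_›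
  haveI : IsAffineHom (ψ ∣_ P) := IsZariskiLocalAtTarget.restrict (P := @IsAffineHom) (isAffineHom_of_isAffine ψ) P
  let f : (ψ ⁻¹ᵁ P).toScheme ⟶ Spec B := (ψ ∣_ P) ≫ P.ι
  let V : (Spec B).Opens := f.opensRange
  have hV : V ≤ P := by
    rintro _ ⟨x, rfl⟩
    exact ((ψ ∣_ P) x).2
  have haff : IsAffineHom ((Spec B).homOfLE hV) := by
    have : (Spec B).homOfLE hV = f.isoOpensRange.inv ≫ (ψ ∣_ P) := by
      rw [← cancel_mono P.ι, Category.assoc]
      simp only [Scheme.homOfLE_ι]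
      exact ((Iso.inv_comp_eq _).2 (f.isoOpensRange_hom_ι).symm).symm
    rw [this]
    infer_instance
  -- points of `φ ⁻¹ P` are determined by their images
  have hinj : ∀ a b : Spec A, φ a ∈ P → φ a = φ b → a = b := by
    intro a b ha hab
    have : (φ ∣_ P) ⟨a, ha⟩ = (φ ∣_ P) ⟨b, show φ b ∈ P from hab ▸ ha⟩ := by
      refine Subtype.ext ?_
      rw [morphismRestrict_base_coe, morphismRestrict_base_coe]
      exact hab
    exact congrArg Subtype.val ((φ ∣_ P).isOpenEmbedding.injective this)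
  have hf : ∀ u, f u = φ u.1.1 := fun u => morphismRestrict_base_coe ψ P u
  have hnc : ∀ T ∈ irreducibleComponents ↥P, ¬ Subtype.val '' T ⊆ (V : Set _) := by
    intro T hT hTV
    have hTcl : IsClosed T := isClosed_of_mem_irreducibleComponents T hT
    obtain ⟨c, hc⟩ := haveI : QuasiSober ↥P := P.isOpenEmbedding.quasiSober
      QuasiSober.sober hT.1 hTcl
    obtain ⟨u, hu⟩ := hTV (Set.mem_image_of_mem Subtype.val hc.mem)
    have hu' : φ u.1.1 = c.1 := (hf u).symm.trans hu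
    have huP : φ u.1.1 ∈ P := hu' ▸ c.2
    have humin : u.1.1.asIdeal ∈ minimalPrimes A := by
      refine ⟨⟨u.1.1.2, bot_le⟩, fun Q hQ hQu => ?_⟩
      let w : Spec A := ⟨Q, hQ.1⟩
      have hwu : w ⤳ u.1.1 := (PrimeSpectrum.le_iff_specializes _ _).1 hQu
      have hwc : φ w ⤳ c.1 := hu' ▸ hwu.map φ.continuous
      have hwP : φ w ∈ P := hwc.mem_open P.isOpen c.2
      have hwc' : (⟨φ w, hwP⟩ : ↥P) ⤳ c := (subtype_specializes_iff _ _).2 hwc
      have h2 : T ⊆ closure {(⟨φ w, hwP⟩ : ↥P)} := by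
        rw [← hc.def]
        exact hwc'.closure_subset
      have h3 := hT.2 isIrreducible_singleton.closure h2
      have h4 : c ⤳ (⟨φ w, hwP⟩ : ↥P) :=
        hc.specializes (h3 (subset_closure rfl))
      have h5 : φ w = φ u.1.1 := by
        rw [hu']
        exact congrArg Subtype.val (hwc'.antisymm h4).eq
      exact (congrArg PrimeSpectrum.asIdeal (hinj _ _ hwP h5)).ge
    obtain ⟨Q, hQ, huQ, hIQ, hhQ⟩ := hcut _ humin fun hle' =>
      (hP _).1 huP ((hI _).2 hle')
    let w : Spec A := ⟨Q, hQ⟩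
    have hwP : φ w ∈ P := (hP _).2 fun e => hIQ ((hI w).1 e)
    have hcw : c.1 ⤳ φ w := hu' ▸ ((PrimeSpectrum.le_iff_specializes _ _).1 huQ).map φ.continuous
    have hwT : (⟨φ w, hwP⟩ : ↥P) ∈ T :=
      ((subtype_specializes_iff _ _).2 hcw).mem_closed hTcl hc.mem
    obtain ⟨u', hu''⟩ := hTV (Set.mem_image_of_mem Subtype.val hwT)
    have : w = u'.1.1 := hinj _ _ hwP (((hf u').symm.trans hu'').symm)
    exact u'.1.2 (show h ∈ u'.1.1.asIdeal from this ▸ hhQ)
  have hVaff : IsAffine V.toScheme := hW V hV hnc haff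
  haveI : IsAffine (ψ ⁻¹ᵁ P).toScheme := .of_isIso f.isoOpensRange.hom
  haveI : IsAffineHom (ψ ⁻¹ᵁ P).ι := inferInstance
  have hzD : z ∈ D := hhz
  have h1 : ringKrullDim (D.toScheme.presheaf.stalk ⟨z, hzD⟩) ≤ 1 := by
    refine Div89.ringKrullDim_stalk_le_one_of_isAffineHom (ψ ⁻¹ᵁ P) ⟨z, hzD⟩
      (fun h' => (hP _).1 h' hz) fun y hy hyz => ?_
    have hy' : φ y.1 = closedPoint B := by
      by_contra e
      exact hy ((hP _).2 e)
    exact Subtype.ext (hmin y.1 hy' (hyz.map continuous_subtype_val))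
  exact (ringKrullDim_eq_of_ringEquiv (D.stalkIso ⟨z, hzD⟩).commRingCatIsoToRingEquiv).symm.trans_le h1

end Groth.Agent.Subtr56.PurW
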