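import Mathlib.AlgebraicGeometry.Morphisms.LocalIso
import Mathlib.AlgebraicGeometry.Morphisms.UniversallyOpen
import Mathlib.AlgebraicGeometry.Stalk

/-! Points at which a morphism is surjective on local rings. -/

set_option autoImplicit false
set_option linter.style.haveILetI false
universe u

open CategoryTheory AlgebraicGeometry IsLocalRing TopologicalSpace

namespace Groth.Agent.Subtr56.PurW

theorem isUnit_of_map_eq {R S : Type*} [CommRing R] [IsLocalRing R] [CommRing S] [Nontrivial S]
    (f : R →+* S) {a b : R} (h : f a = f b) (ha : IsUnit a) : IsUnit b := by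
  by_contra hb
  have h1 : IsUnit (a - b) := by
    by_contra hab
    have := Ideal.add_mem _ ((mem_maximalIdeal _).2 hab) ((mem_maximalIdeal _).2 hb)
    rw [sub_add_cancel, mem_maximalIdeal] at this
    exact this ha
  exact not_isUnit_zero (M₀ := S) (by simpa [h] using h1.map f)

variable {X Y : Scheme.{u}} (g : X ⟶ Y)

theorem spec_spec {Z : Scheme.{u}} {a b c : Z} (h : a ⤳ b) (h' : b ⤳ c) (s : Z.presheaf.stalk c) :
    Z.presheaf.stalkSpecializes h (Z.presheaf.stalkSpecializes h' s) =
      Z.presheaf.stalkSpecializes (h.trans h') s := by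
  rw [← ConcreteCategory.comp_apply, TopCat.Presheaf.stalkSpecializes_comp]

theorem spec_refl {Z : Scheme.{u}} {a : Z} (h : a ⤳ a) (s : Z.presheaf.stalk a) :
    Z.presheaf.stalkSpecializes h s = s := by
  simp

theorem eq_of_stalkMap_surjective {z' z : X} (h : z' ⤳ z) (he : g z' = g z)
    (hs : Function.Surjective (g.stalkMap z')) : z' = z := by
  haveI : IsLocalHom (X.presheaf.stalkSpecializes h).hom := ⟨fun c hc => by
    obtain ⟨b, hb⟩ := hs (X.presheaf.stalkSpecializes h c)
    have hzz : g z ⤳ g z' := specializes_of_eq he.symm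
    have hb0 : Y.presheaf.stalkSpecializes (h.map g.continuous)
        (Y.presheaf.stalkSpecializes hzz b) = b := by
      rw [spec_spec, spec_refl]
    have hd : (X.presheaf.stalkSpecializes h).hom (g.stalkMap z (Y.presheaf.stalkSpecializes hzz b)) =
        (X.presheaf.stalkSpecializes h).hom c :=
      (Scheme.Hom.stalkSpecializes_stalkMap_apply g z' z h _).symm.trans
        ((congrArg (g.stalkMap z') hb0).trans hb)
    have hbu : IsUnit b := isUnit_of_map_unit (g.stalkMap z').hom b (hb ▸ hc)
    exact isUnit_of_map_eq (X.presheaf.stalkSpecializes h).hom hd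
      ((hbu.map (Y.presheaf.stalkSpecializes hzz).hom).map (g.stalkMap z).hom)⟩
  calc z' = X.fromSpecStalk z' (closedPoint _) := Scheme.fromSpecStalk_closedPoint.symm
    _ = (Spec.map (X.presheaf.stalkSpecializes h) ≫ X.fromSpecStalk z) (closedPoint _) := by
        rw [Scheme.SpecMap_stalkSpecializes_fromSpecStalk]
    _ = X.fromSpecStalk z (closedPoint _) := by
        show X.fromSpecStalk z (PrimeSpectrum.comap _ (closedPoint _)) = _
        rw [IsLocalRing.comap_closedPoint]
    _ = z := Scheme.fromSpecStalk_closedPoint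

theorem eq_of_common_generization {O : X.Opens} (hO : IsAffineOpen O) {x₁ x₂ η : X}
    (h₁ : x₁ ∈ O) (h₂ : x₂ ∈ O) (hη₁ : η ⤳ x₁) (hη₂ : η ⤳ x₂) (he : g x₁ = g x₂)
    (hs₁ : Function.Surjective (g.stalkMap x₁)) (hs₂ : Function.Surjective (g.stalkMap x₂))
    (hi : Function.Injective (g.stalkMap η)) : x₁ = x₂ := by
  have key : ∀ a : Γ(X, O), x₁ ∈ X.basicOpen a ↔ x₂ ∈ X.basicOpen a := by
    intro a
    rw [Scheme.mem_basicOpen _ _ _ h₁, Scheme.mem_basicOpen _ _ _ h₂]
    obtain ⟨b₁, hb₁⟩ := hs₁ (X.presheaf.germ O x₁ h₁ a)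
    obtain ⟨b₂, hb₂⟩ := hs₂ (X.presheaf.germ O x₂ h₂ a)
    have h12 : g x₁ ⤳ g x₂ := specializes_of_eq he
    have h21 : g x₂ ⤳ g x₁ := specializes_of_eq he.symm
    have e : Y.presheaf.stalkSpecializes (hη₁.map g.continuous) b₁ =
        Y.presheaf.stalkSpecializes (hη₁.map g.continuous) (Y.presheaf.stalkSpecializes h12 b₂) := by
      apply hi
      refine (Scheme.Hom.stalkSpecializes_stalkMap_apply g η x₁ hη₁ b₁).trans ?_
      rw [spec_spec, hb₁]
      refine Eq.trans ?_ (Scheme.Hom.stalkSpecializes_stalkMap_apply g η x₂ hη₂ b₂).symm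
      rw [hb₂, TopCat.Presheaf.germ_stalkSpecializes_apply, TopCat.Presheaf.germ_stalkSpecializes_apply]
    rw [← hb₁, ← hb₂]
    constructor
    · intro hu
      have h := isUnit_of_map_eq _ e (isUnit_of_map_unit (g.stalkMap x₁).hom b₁ hu)
      have h' := h.map (Y.presheaf.stalkSpecializes h21).hom
      rw [spec_spec, spec_refl] at h'
      exact h'.map (g.stalkMap x₂).hom
    · intro hu
      exact (isUnit_of_map_eq _ e.symm ((isUnit_of_map_unit (g.stalkMap x₂).hom b₂ hu).map
        (Y.presheaf.stalkSpecializes h12).hom)).map (g.stalkMap x₁).hom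
  have : ∀ {a b : X}, a ∈ O → (∀ s : Γ(X, O), a ∈ X.basicOpen s → b ∈ X.basicOpen s) → b ⤳ a := by
    intro a b ha hab
    rw [specializes_iff_forall_open]
    intro U hU haU
    obtain ⟨s, hs, has⟩ := hO.exists_basicOpen_le (V := ⟨U, hU⟩) ⟨a, haU⟩ ha
    exact hs (hab s has)
  exact ((this h₂ fun s hs => (key s).2 hs).antisymm (this h₁ fun s hs => (key s).1 hs)).eq

theorem isIso_stalkMap_of_isLocalIso [IsLocalIso g] (x : X) : IsIso (g.stalkMap x) := by
  obtain ⟨U, hx, hU⟩ := IsLocalIso.exists_isOpenImmersion (f := g) x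
  let x' : U.toScheme := ⟨x, hx⟩
  have : IsIso ((U.ι ≫ g).stalkMap x') := inferInstance
  rw [Scheme.Hom.stalkMap_comp] at this
  have h2 : IsIso (U.ι.stalkMap x') := inferInstance
  exact @IsIso.of_isIso_comp_right _ _ _ _ _ (g.stalkMap x) (U.ι.stalkMap x') h2 this

theorem isOpenImmersion_of_isLocalIso_of_injective [IsLocalIso g] (hg : Function.Injective g) :
    IsOpenImmersion g := by
  haveI : UniversallyOpen g :=
    IsLocalIso.le_of_isZariskiLocalAtSource @UniversallyOpen _ _ g ‹_›
  haveI := isIso_stalkMap_of_isLocalIso g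
  exact IsOpenImmersion.of_isIso_stalkMap g
    (.of_continuous_injective_isOpenMap g.continuous hg g.isOpenMap)

end Groth.Agent.Subtr56.PurW
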